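import Groth.Agent.RefHullLib.Coherent

/-!
# Sheaves of homomorphisms into a module that extends across a closed set
-/

set_option autoImplicit false
set_option linter.style.haveILetI false
set_option backward.isDefEq.respectTransparency false
set_option backward.isDefEq.respectTransparency.types false

noncomputable section

universe u

open CategoryTheory CategoryTheory.Limits AlgebraicGeometry TopologicalSpace Opposite

namespace QGorSecLib

variable {X : Scheme.{u}} (U : X.Opens)

/-- Sections extend uniquely across the complement of `U`. -/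
def Extends (M : X.Modules) : Prop :=
  ∀ V : X.Opens, Function.Bijective (M.presheaf.map (homOfLE (inf_le_left : V ⊓ U ≤ V)).op)

theorem extends_of_isIso_unit {M : X.Modules}
    (h : IsIso ((Scheme.Modules.restrictAdjunction U.ι).unit.app M)) : Extends U M := fun V => by
  haveI := h
  have hb := ConcreteCategory.bijective_of_isIso (((Scheme.Modules.restrictAdjunction U.ι).unit.app M).app V)
  rw [Scheme.Modules.restrictAdjunction_unit_app_app] at hb
  have e : U.ι ''ᵁ U.ι ⁻¹ᵁ V = V ⊓ U := by
    rw [Scheme.Hom.image_preimage_eq_opensRange_inf, Scheme.Opens.opensRange_ι, inf_comm]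
  haveI : IsIso (homOfLE e.ge) := ⟨homOfLE e.le, Subsingleton.elim _ _, Subsingleton.elim _ _⟩
  rw [show (homOfLE (inf_le_left : V ⊓ U ≤ V)).op =
    (homOfLE (U.ι.image_preimage_le V)).op ≫ (homOfLE e.ge).op from Subsingleton.elim _ _, Functor.map_comp]
  exact (ConcreteCategory.bijective_of_isIso (M.presheaf.map (homOfLE e.ge).op)).comp hb

theorem isIso_unit_of_extends {M : X.Modules} (h : Extends U M) :
    IsIso ((Scheme.Modules.restrictAdjunction U.ι).unit.app M) := by
  refine Scheme.Modules.Hom.isIso_iff_isIso_app.2 fun V => ?_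
  rw [ConcreteCategory.isIso_iff_bijective]
  rw [Scheme.Modules.restrictAdjunction_unit_app_app]
  have e : U.ι ''ᵁ U.ι ⁻¹ᵁ V = V ⊓ U := by
    rw [Scheme.Hom.image_preimage_eq_opensRange_inf, Scheme.Opens.opensRange_ι, inf_comm]
  haveI : IsIso (homOfLE e.le) := ⟨homOfLE e.ge, Subsingleton.elim _ _, Subsingleton.elim _ _⟩
  rw [show (homOfLE (U.ι.image_preimage_le V)).op =
    (homOfLE (inf_le_left : V ⊓ U ≤ V)).op ≫ (homOfLE e.le).op from Subsingleton.elim _ _, Functor.map_comp]
  exact (ConcreteCategory.bijective_of_isIso (M.presheaf.map (homOfLE e.le).op)).comp (h V)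

variable {F G : X.Modules}

/-- `𝓗om(F, G)` extends as soon as `G` does. -/
theorem extends_homSh (hG : Extends U G) : Extends U (RefHull.homSh F G) := by
  intro W
  constructor
  · intro g g' hgg
    refine RefHullLib.hom_sec_ext _ _ fun y => LinearMap.ext fun v => ?_
    obtain ⟨V₀, hy₀, a₀, rfl⟩ := TopCat.Presheaf.exists_germ_eq F.presheaf (x := (y : X)) v
    obtain ⟨V, hVW, hV₀, hy⟩ : ∃ V : X.Opens, V ≤ W ∧ V ≤ V₀ ∧ (y : X) ∈ V :=
      ⟨W ⊓ V₀, inf_le_left, inf_le_right, y.2, hy₀⟩
    let a := F.presheaf.map (homOfLE hV₀).op a₀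
    rw [← TopCat.Presheaf.germ_res_apply F.presheaf (homOfLE hV₀) y.1 hy]
    have happ : RefHullLib.app ((RefHull.homSh F G).presheaf.map (homOfLE hVW).op g) a =
        RefHullLib.app ((RefHull.homSh F G).presheaf.map (homOfLE hVW).op g') a := by
      refine (hG V).1 (RefHullLib.germ_ext G _ _ fun z hz => ?_)
      rw [TopCat.Presheaf.germ_res_apply, TopCat.Presheaf.germ_res_apply, RefHullLib.germ_app,
        RefHullLib.germ_app, RefHullLib.res_val, RefHullLib.res_val]
      have h := congrArg (fun t => t.1 (⟨z, hVW hz.1, hz.2⟩ : (W ⊓ U : X.Opens))) hgg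
      exact LinearMap.congr_fun h _
    have h := congrArg (G.presheaf.germ V y.1 hy) happ
    rw [RefHullLib.germ_app, RefHullLib.germ_app, RefHullLib.res_val, RefHullLib.res_val] at h
    exact h
  · intro f
    have key : ∀ (V : X.Opens) (hV : V ≤ W) (a : Γ(F, V)), ∃! n : Γ(G, V), ∀ z (hz : z ∈ V ⊓ U),
        G.presheaf.germ V z hz.1 n = f.1 ⟨z, hV hz.1, hz.2⟩ (F.presheaf.germ V z hz.1 a) := by
      intro V hV a
      have hVU : V ⊓ U ≤ W ⊓ U := inf_le_inf hV le_rfl
      obtain ⟨n, hn⟩ := (hG V).2 (RefHullLib.app ((RefHull.homSh F G).presheaf.map (homOfLE hVU).op f)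
        (F.presheaf.map (homOfLE inf_le_left).op a))
      refine ⟨n, fun z hz => ?_, fun n' hn' => (hG V).1 (RefHullLib.germ_ext G _ _ fun z hz => ?_)⟩
      · have h := congrArg (G.presheaf.germ (V ⊓ U) z hz) hn
        rw [TopCat.Presheaf.germ_res_apply, RefHullLib.germ_app, RefHullLib.res_val,
          TopCat.Presheaf.germ_res_apply] at h
        exact h
      · rw [hn, TopCat.Presheaf.germ_res_apply, RefHullLib.germ_app, RefHullLib.res_val,
          TopCat.Presheaf.germ_res_apply]
        exact hn' z hz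
    choose n hn huniq using key
    have hres : ∀ (V V' : X.Opens) (hV : V ≤ W) (h' : V' ≤ V) (a : Γ(F, V)),
        G.presheaf.map (homOfLE h').op (n V hV a) = n V' (h'.trans hV) (F.presheaf.map (homOfLE h').op a) := by
      intro V V' hV h' a
      refine huniq V' _ _ _ fun z hz => ?_
      rw [TopCat.Presheaf.germ_res_apply, TopCat.Presheaf.germ_res_apply]
      exact hn V hV a z ⟨h' hz.1, hz.2⟩
    have hadd : ∀ (V : X.Opens) (hV : V ≤ W) (a b : Γ(F, V)), n V hV (a + b) = n V hV a + n V hV b := by
      intro V hV a b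
      refine (huniq V hV _ _ fun z hz => ?_).symm
      rw [map_add, map_add, map_add, hn V hV a z hz, hn V hV b z hz]
    have hsmul : ∀ (V : X.Opens) (hV : V ≤ W) (r : Γ(X, V)) (a : Γ(F, V)),
        n V hV (r • a) = r • n V hV a := by
      intro V hV r a
      refine (huniq V hV _ _ fun z hz => ?_).symm
      rw [Mero.germ_smul, Mero.germ_smul, map_smul, hn V hV a z hz]
    have hwd : ∀ (y : X) (V V' : X.Opens) (hV : V ≤ W) (hV' : V' ≤ W) (hy : y ∈ V) (hy' : y ∈ V') (a : Γ(F, V))
        (a' : Γ(F, V')), F.presheaf.germ V y hy a = F.presheaf.germ V' y hy' a' →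
        G.presheaf.germ V y hy (n V hV a) = G.presheaf.germ V' y hy' (n V' hV' a') := by
      intro y V V' hV hV' hy hy' a a' h
      obtain ⟨W', hW', i, i', e⟩ := F.presheaf.germ_eq (U := V) (V := V') y hy hy' _ _ h
      rw [← TopCat.Presheaf.germ_res_apply G.presheaf (homOfLE i.le) y hW',
        ← TopCat.Presheaf.germ_res_apply G.presheaf (homOfLE i'.le) y hW', hres, hres]
      exact congrArg (fun t => G.presheaf.germ W' y hW' (n W' (i.le.trans hV) t)) e
    have hrep : ∀ (y : W) (v : F.presheaf.stalk (y : X)), ∃ (V : X.Opens) (_ : V ≤ W) (hy : (y : X) ∈ V)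
        (a : Γ(F, V)), F.presheaf.germ V y hy a = v := by
      intro y v
      obtain ⟨V₀, hy₀, a₀, rfl⟩ := TopCat.Presheaf.exists_germ_eq F.presheaf (x := (y : X)) v
      exact ⟨W ⊓ V₀, inf_le_left, ⟨y.2, hy₀⟩, F.presheaf.map (homOfLE inf_le_right).op a₀,
        TopCat.Presheaf.germ_res_apply _ _ _ _ _⟩
    choose Vv hle hmem av hav using hrep
    let gy : ∀ y : W, RefHull.StalkHom F G y.1 := fun y =>
      { toFun := fun v => G.presheaf.germ (Vv y v) y (hmem y v) (n _ (hle y v) (av y v))
        map_add' := fun v v' => by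
          let V := Vv y v ⊓ Vv y v'
          have hy : (y : X) ∈ V := ⟨hmem y v, hmem y v'⟩
          have hV : V ≤ W := inf_le_left.trans (hle y v)
          rw [hwd _ _ V (hle y v) hV (hmem y v) hy _ (F.presheaf.map (homOfLE inf_le_left).op (av y v))
              (TopCat.Presheaf.germ_res_apply _ _ _ _ _).symm,
            hwd _ _ V (hle y v') hV (hmem y v') hy _ (F.presheaf.map (homOfLE inf_le_right).op (av y v'))
              (TopCat.Presheaf.germ_res_apply _ _ _ _ _).symm,
            hwd _ _ V (hle y (v + v')) hV (hmem y (v + v')) hy _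
              (F.presheaf.map (homOfLE inf_le_left).op (av y v) + F.presheaf.map (homOfLE inf_le_right).op (av y v'))
              (by rw [hav, map_add, TopCat.Presheaf.germ_res_apply, TopCat.Presheaf.germ_res_apply, hav, hav]),
            hadd, map_add]
        map_smul' := fun r v => by
          obtain ⟨Vr, hr, r₀, rfl⟩ := TopCat.Presheaf.exists_germ_eq X.presheaf r
          let V := Vv y v ⊓ Vr
          have hy : (y : X) ∈ V := ⟨hmem y v, hr⟩
          have hV : V ≤ W := inf_le_left.trans (hle y v)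
          rw [RingHom.id_apply,
            hwd _ _ V (hle y v) hV (hmem y v) hy _ (F.presheaf.map (homOfLE inf_le_left).op (av y v))
              (TopCat.Presheaf.germ_res_apply _ _ _ _ _).symm,
            hwd _ _ V (hle y _) hV (hmem y _) hy _
              (X.presheaf.map (homOfLE inf_le_right).op r₀ • F.presheaf.map (homOfLE inf_le_left).op (av y v))
              (by rw [hav, Mero.germ_smul, TopCat.Presheaf.germ_res_apply, TopCat.Presheaf.germ_res_apply, hav]),
            hsmul, Mero.germ_smul, TopCat.Presheaf.germ_res_apply] }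
    have hg : RefHull.IsLocSect F G gy := fun V i m x =>
      ⟨V, x.2, 𝟙 V, n V i.le m, fun y =>
        hwd y.1 _ V (hle ⟨y.1, i.le y.2⟩ _) i.le (hmem _ _) y.2 _ m (hav _ _)⟩
    refine ⟨⟨gy, hg⟩, RefHullLib.hom_sec_ext _ _ fun y => LinearMap.ext fun v => ?_⟩
    rw [RefHullLib.res_val]
    show G.presheaf.germ (Vv ⟨y.1, y.2.1⟩ v) y.1 _ (n _ _ _) = f.1 y v
    refine (hn _ (hle ⟨y.1, y.2.1⟩ v) _ y.1 ⟨hmem ⟨y.1, y.2.1⟩ v, y.2.2⟩).trans ?_
    rw [hav ⟨y.1, y.2.1⟩ v]

end QGorSecLib
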