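import Groth.Agent.GorDualExtLib.Single
import Groth.Agent.RelDualCMLib.Amp
import Groth.Agent.DualLpullLib.Chart
import Groth.Agent.ShriekLib.FlatBC
import Groth.Agent.MiscFlat6.TopDimCovers
import Groth.Agent.S3638
import Groth.Prelude.Def_RelCanon

/-!
# The relative dualizing object is invertible in degree `-d` near a relatively Gorenstein point
-/

set_option autoImplicit false
set_option linter.style.haveILetI false
set_option linter.unusedSectionVars false
set_option backward.isDefEq.respectTransparency false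
set_option backward.isDefEq.respectTransparency.types false
set_option maxHeartbeats 1000000
set_option synthInstance.maxHeartbeats 200000

noncomputable section

universe u

open CategoryTheory CategoryTheory.Limits AlgebraicGeometry
open Groth.Agent

attribute [local instance] HasDerivedCategory.standard

namespace QGorSecLib

/-- Invertibility at a point through an open immersion. -/
theorem invertibleAt_of_restrict {X V : Scheme.{u}} (j : V ⟶ X) [IsOpenImmersion j] {L : X.Modules}
    (e : L.restrict j ≅ Coh.structureModule V) (v : V) : RelCanon.InvertibleAt L (j v) := by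
  let k := j.isoOpensRange
  have hk : k.inv ≫ j = j.opensRange.ι := j.isoOpensRange_inv_comp
  obtain ⟨e₀⟩ := MiscFlat6.nonempty_restrict_structureModule (X := V) k.inv
  exact ⟨j.opensRange, ⟨v, rfl⟩, ⟨(Scheme.Modules.restrictFunctorCongr hk.symm).app L ≪≫
    (Scheme.Modules.restrictFunctorComp k.inv j).app L ≪≫
    (Scheme.Modules.restrictFunctor k.inv).mapIso e ≪≫ e₀⟩⟩

variable {X T : Scheme.{u}} [IsNoetherian T] (f : X ⟶ T) [IsProper f] [Flat f] [DCoh.HasRpush f]
  (hf : DCoh.RpushPreservesQCoh f) (a : DCoh.DQCoh T ⥤ DCoh.DQCoh X) (adj : DCoh.RpushQ f hf ⊣ a)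
  (O : DCoh.DQCoh T) (hO : Nonempty (O.obj ≅ DCoh.inD T (Coh.structureModule T)))

include adj hO in
theorem invertibleAt_HD_of_gorensteinAt (d : ℕ)
    (hd : ∀ (y : T) (Z : Set ↥(f.fiber y)), Z ∈ irreducibleComponents ↥(f.fiber y) →
      topologicalKrullDim ↥Z = (d : WithBot ℕ∞))
    (x : X) (hx : Dual3.IsGorensteinAt f x) :
    RelCanon.InvertibleAt (DCoh.HD (a.obj O).obj (-(d : ℤ))) x := by
  haveI : ∀ (U V : Scheme.{u}) (j : U ⟶ V) [IsOpenImmersion j],
      PreservesFiniteLimits (Scheme.Modules.restrictFunctor j) := fun U V j _ => inferInstance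
  haveI : Dual3.IsSepFT f := { isSeparated := inferInstance, quasiCompact := inferInstance, locallyOfFiniteType := inferInstance }
  haveI : Dual3.IsSepFT (𝟙 T) :=
    { isSeparated := inferInstance, quasiCompact := inferInstance, locallyOfFiniteType := inferInstance }
  haveI : IsLocallyNoetherian X := LocallyOfFiniteType.isLocallyNoetherian f
  haveI : CompactSpace X := QuasiCompact.compactSpace_of_compactSpace f
  haveI : IsNoetherian X := ⟨⟩
  let c : DEt.Compactification f := ⟨X, 𝟙 X, f, inferInstance, inferInstance, Category.id_comp f⟩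
  haveI : DCoh.HasRpush c.fbar := ‹DCoh.HasRpush f›
  let K := (a.obj O).obj
  obtain ⟨eid⟩ := TildePCLib.nonempty_resD_id K
  have eid' : (Dual3.shriekC c a).obj O ≅ K := eid
  obtain ⟨hinv, -⟩ := Groth.Agent.S3616.result T X T f (𝟙 T) f (Category.comp_id f) c hf a adj O hO
  obtain ⟨U, hxU, hU⟩ := (hinv x).1 hx
  obtain ⟨V, m, hxV, ⟨c'⟩⟩ := hU ⟨x, hxU⟩
  let j : (V : Scheme.{u}) ⟶ X := V.ι ≫ U.ι
  haveI : IsOpenImmersion j := inferInstanceAs (IsOpenImmersion (_ ≫ _))
  let cj : (DCoh.restrictD j).obj K ≅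
      (DCoh.inD (V : Scheme.{u}) (Coh.structureModule (V : Scheme.{u})))⟦m⟧ :=
    (DCoh.restrictD j).mapIso eid'.symm ≪≫ DualCxLib.restrictCompIso V.ι U.ι _ ≪≫ c'
  let v : (V : Scheme.{u}) := ⟨⟨x, hxU⟩, hxV⟩
  let ι := f.fiberι (f x)
  let q := f.fiberToSpecResidueField (f x)
  haveI : IsProper q := inferInstanceAs (IsProper (pullback.snd f (T.fromSpecResidueField (f x))))
  haveI : IsLocallyNoetherian (f.fiber (f x)) := LocallyOfFiniteType.isLocallyNoetherian q
  haveI : CompactSpace (f.fiber (f x)) := QuasiCompact.compactSpace_of_compactSpace q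
  haveI : IsNoetherian (f.fiber (f x)) := ⟨⟩
  let P := pullback ι j
  let j' : P ⟶ f.fiber (f x) := pullback.fst ι j
  let g : P ⟶ (V : Scheme.{u}) := pullback.snd ι j
  haveI : IsLocallyNoetherian (V : Scheme.{u}) := LocallyOfFiniteType.isLocallyNoetherian j
  haveI : CompactSpace (V : Scheme.{u}) := isCompact_univ_iff.1
    (j.isOpenEmbedding.isInducing.isCompact_iff.2 (TopologicalSpace.NoetherianSpace.isCompact _))
  haveI : IsNoetherian (V : Scheme.{u}) := ⟨⟩
  haveI : IsLocallyNoetherian P := LocallyOfFiniteType.isLocallyNoetherian j'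
  haveI : CompactSpace P := isCompact_univ_iff.1
    (j'.isOpenEmbedding.isInducing.isCompact_iff.2 (TopologicalSpace.NoetherianSpace.isCompact _))
  haveI : IsNoetherian P := ⟨⟩
  haveI := KFlatLib.hasLpull ι
  haveI := KFlatLib.hasLpull g
  haveI := DCohRestrLib.hasRpush q
  have hq : DCoh.RpushPreservesQCoh q := fun E hE => QRlimLib.isQCohD_rpush _ hE
  obtain ⟨a', adj', ⟨eF⟩⟩ := RelDualCMLib.exists_fibre f hf a adj O hO (f x) hq
  obtain ⟨sq⟩ := ShriekLib.nonempty_restrict_lpull_square j j' g ι pullback.condition.symm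
  obtain ⟨_, _⟩ := DualFMLib.exists_isTriangulated_lpull g
  let eP : (DCoh.restrictD j').obj (a'.obj (RelDualCMLib.unitQ _)).obj ≅
      (DCoh.inD P (Coh.structureModule P))⟦m⟧ :=
    (DCoh.restrictD j').mapIso eF.symm ≪≫ (sq.app K).symm ≪≫ (DCoh.Lpull g).mapIso cj ≪≫
      ((DCoh.Lpull g).commShiftIso m).app _ ≪≫ (CategoryTheory.shiftFunctor _ m).mapIso
        ((DCoh.Lpull g).mapIso (DualFMLib.inDUnit (V : Scheme.{u})) ≪≫ KiehlLib.lpullUnitIso g ≪≫
          (DualFMLib.inDUnit P).symm)
  obtain ⟨p, hp, -⟩ := Scheme.Pullback.exists_preimage_pullback (f := ι) (g := j) (f.asFiber x) v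
    (by rw [Scheme.Hom.fiberι_asFiber]; rfl)
  have hdimF : topologicalKrullDim ↥(f.fiber (f x)) = (d : WithBot ℕ∞) := by
    rw [MiscFlat6.dim_eq_iSup_components]
    refine le_antisymm (iSup₂_le fun Z hZ => (hd _ Z hZ).le) ?_
    exact (hd _ _ (irreducibleComponent_mem_irreducibleComponents (f.asFiber x))).ge.trans
      (le_iSup₂ (f := fun (Z : Set ↥(f.fiber (f x))) _ => topologicalKrullDim ↥Z) _ (irreducibleComponent_mem_irreducibleComponents _))
  obtain ⟨⟨-, -, hsupp⟩, -⟩ := Groth.Agent.S3638.result (T.residueField (f x)) (f.fiber (f x)) q d hdimF hq a' adj'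
    (RelDualCMLib.unitQ _) ⟨Iso.refl _⟩
  have hnt : Nontrivial ((DCoh.HD (a'.obj (RelDualCMLib.unitQ (Spec (T.residueField (f x))))).obj
      (-(d : ℤ))).presheaf.stalk (j' p)) := by
    refine hsupp.ge (Set.mem_iUnion₂.2 ⟨irreducibleComponent (j' p),
      ⟨irreducibleComponent_mem_irreducibleComponents _, hd _ _ (irreducibleComponent_mem_irreducibleComponents _)⟩,
      mem_irreducibleComponent⟩)
  have hm : m + -(d : ℤ) = 0 := by
    by_contra hne
    have h1 : IsZero ((DCoh.HD (a'.obj (RelDualCMLib.unitQ (Spec (T.residueField (f x))))).obj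
        (-(d : ℤ))).restrict j') :=
      (GorDualExtLib.isZero_hd_inD (Coh.structureModule P) _ hne).of_iso
        ((DCohRestrLib.restrictHDIso j' _ _).symm ≪≫ (DerivedCategory.homologyFunctor _ _).mapIso eP ≪≫
          GorDualExtLib.hdShiftIso _ m _)
    exact not_subsingleton_iff_nontrivial.2 hnt ((DCohRestrLib.subsingleton_stalk_restrict j' _ p).1
      ((DCohRestrLib.isZero_iff_subsingleton_stalks _).1 h1 p))
  exact invertibleAt_of_restrict j ((DCohRestrLib.restrictHDIso j K _).symm ≪≫
    (DerivedCategory.homologyFunctor _ _).mapIso cj ≪≫ GorDualExtLib.hdShiftIso _ m _ ≪≫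
    eqToIso (by rw [hm]) ≪≫ GorDualExtLib.hdInD _) v

end QGorSecLib
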