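import Groth.Agent.SuppCdLib.Basic
import Groth.Agent.FibVanLib.QCoh
import Groth.Agent.BlowRegLib.DualPair
import Groth.Agent.DCohRestrLib.Support
import Groth.Agent.LocSuppLib.QCohSupp
import Groth.Agent.QGorSecLib.HomSh
import Groth.Prelude.Def_RelCanon

/-!
# A dualizing sheaf extends across a closed set of small fibre dimension
-/

set_option autoImplicit false
set_option linter.style.haveILetI false
set_option linter.unusedSectionVars false
set_option backward.isDefEq.respectTransparency false
set_option backward.isDefEq.respectTransparency.types false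
set_option maxHeartbeats 1000000
set_option synthInstance.maxHeartbeats 200000

noncomputable section

universe u

open CategoryTheory CategoryTheory.Limits AlgebraicGeometry CategoryTheory.Abelian
open Groth.Agent

namespace QGorSecLib

section Ext

universe w v' u'

variable {C : Type u'} [Category.{v'} C] [Abelian C] [HasExt.{w} C] {A : C} {T : ShortComplex C}

theorem bijective_postcomp_f (hT : T.ShortExact) {n : ℕ} (h₁ : Subsingleton (Ext A T.X₃ n))
    (h₂ : Subsingleton (Ext A T.X₃ (n + 1))) :
    Function.Bijective (fun x : Ext A T.X₁ (n + 1) => x.comp (Ext.mk₀ T.f) (add_zero (n + 1))) := by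
  refine ⟨(injective_iff_map_eq_zero ((Ext.mk₀ T.f).postcomp A (add_zero (n + 1)))).2 fun x h => ?_,
    fun z => ?_⟩
  · obtain ⟨c, hc⟩ := Ext.covariant_sequence_exact₁ _ hT x h rfl
    rw [← hc, h₁.allEq c 0, Ext.zero_comp]
  · obtain ⟨x, hx⟩ := Ext.covariant_sequence_exact₂ _ hT z (h₂.allEq _ _)
    exact ⟨x, hx⟩

end Ext

variable {X : Scheme.{u}} (U : X.Opens)

/-- A module that vanishes on `U` is supported off `U`. -/
theorem support_subset {M : X.Modules} (h : IsZero ((Scheme.Modules.restrictFunctor U.ι).obj M)) :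
    CohB1.support M ⊆ (U : Set X)ᶜ := fun x hx hxU =>
  hx ((DCohRestrLib.subsingleton_stalk_restrict U.ι M ⟨x, hxU⟩).1
    ((DCohRestrLib.isZero_iff_subsingleton_stalks _).1 h ⟨x, hxU⟩))

/-- A quasi-coherent module without nonzero coherent submodules is zero. -/
theorem isZero_of_coh_sub [IsNoetherian X] (N : X.Modules) [Coh.IsQCoh N]
    (h : ∀ (G : X.Modules) (φ : G ⟶ N), Mono φ → Coh.IsCoh G → IsZero G) : IsZero N := by
  refine (DCohRestrLib.isZero_iff_subsingleton_stalks N).2 fun x => subsingleton_of_forall_eq 0 fun v => ?_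
  obtain ⟨V₀, hx₀, a₀, rfl⟩ := TopCat.Presheaf.exists_germ_eq N.presheaf v
  obtain ⟨V, hV, hxV, hle⟩ := exists_isAffineOpen_mem_and_subset (x := x) (U := V₀) hx₀
  obtain ⟨G, φ, hm, hG, ht⟩ := FibVanLib.exists_coh_through N (fun _ : Unit => V) (fun _ => hV)
    (fun _ => N.presheaf.map (homOfLE hle).op a₀)
  obtain ⟨t, ht⟩ := ht ()
  have h0 : φ.app V t = 0 := by
    rw [(h G φ hm hG).eq_of_src φ 0]
    rfl
  exact (TopCat.Presheaf.germ_res_apply N.presheaf (homOfLE hle) x hxV a₀).symm.trans
    ((congrArg _ (ht.symm.trans h0)).trans (map_zero _))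

variable {A : Type u} [CommRing A] [X.Over (Spec (CommRingCat.of A))]

/-- A dualizing sheaf extends across a closed set whose coherent modules have no cohomology in degrees `≥ d - 1`. -/
theorem extends_of_isDualizing [IsNoetherian X] {d : ℕ} (hd : 1 ≤ d) {ω : X.Modules}
    (hω : RelCanon.IsDualizingSheaf A X d ω)
    (hvan : ∀ G : X.Modules, Coh.IsCoh G → CohB1.support G ⊆ (U : Set X)ᶜ →
      ∀ i : ℕ, d ≤ i + 1 → Subsingleton (Coh.HH X G i)) : Extends U ω := by
  obtain ⟨tr, hq, hb⟩ := hω
  haveI : Coh.IsQCoh ω := hq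
  let adj := Scheme.Modules.restrictAdjunction U.ι
  let R := Scheme.Modules.restrictFunctor U.ι
  let P : X.Modules := (Scheme.Modules.pushforward U.ι).obj (R.obj ω)
  let η : ω ⟶ P := adj.unit.app ω
  haveI : QuasiCompact U.ι := inferInstance
  haveI : Coh.IsQCoh (R.obj ω) := LocSuppLib.isQCoh_restr U.ι ω
  haveI : Coh.IsQCoh P := QCohLib.isQCoh_pushforward U.ι _
  haveI hiso : IsIso (R.map η) :=
    ⟨adj.counit.app (R.obj ω), adj.left_triangle_components ω,
      (cancel_mono (adj.counit.app (R.obj ω))).1 (by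
        rw [Category.assoc, adj.left_triangle_components ω, Category.id_comp]
        exact Category.comp_id _)⟩
  -- coherent modules supported off `U` have no maps to `ω`
  have hzero : ∀ (G : X.Modules), Coh.IsCoh G → IsZero (R.obj G) → ∀ ψ : G ⟶ ω, ψ = 0 := fun G hG h0 ψ =>
    (hb G hG.1).1 (LinearMap.ext fun x => by
      haveI := hvan G hG (support_subset U h0) d (by omega)
      rw [Subsingleton.elim x 0, map_zero, map_zero])
  haveI : Mono η := Preadditive.mono_of_isZero_kernel _ (by
    haveI : Coh.IsQCoh (kernel η) := QCohLib.isQCoh_kernel η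
    refine isZero_of_coh_sub _ fun G φ hm hG => ?_
    have hK : IsZero (R.obj (kernel η)) := (isZero_kernel_of_mono (R.map η)).of_iso (PreservesKernel.iso R η)
    haveI := hm
    have h0 : IsZero (R.obj G) := IsZero.of_mono (R.map φ) hK
    have h1 := hzero G hG h0 (φ ≫ kernel.ι η)
    exact IsZero.of_mono_eq_zero (φ ≫ kernel.ι η) h1)
  haveI : Epi η := Preadditive.epi_of_isZero_cokernel _ (by
    haveI : Coh.IsQCoh (cokernel η) := QCohLib.isQCoh_cokernel η
    refine isZero_of_coh_sub _ fun G ψ hm hG => ?_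
    haveI := hm
    haveI : Coh.IsQCoh G := hG.1
    have hC : IsZero (R.obj (cokernel η)) := (isZero_cokernel_of_epi (R.map η)).of_iso (PreservesCokernel.iso R η)
    have h0 : IsZero (R.obj G) := IsZero.of_mono (R.map ψ) hC
    have hs := support_subset U h0
    let E := pullback (cokernel.π η) ψ
    let ι : ω ⟶ E := pullback.lift η 0 (by simp)
    have w : ι ≫ pullback.snd (cokernel.π η) ψ = 0 := pullback.lift_snd _ _ _
    haveI : Mono ι := mono_of_mono_fac (h := η) (pullback.lift_fst η 0 _)
    haveI : Epi (pullback.snd (cokernel.π η) ψ) := inferInstance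
    let T := ShortComplex.mk ι (pullback.snd (cokernel.π η) ψ) w
    have hT : T.ShortExact :=
      { exact := ShortComplex.exact_of_f_is_kernel _ (KernelFork.IsLimit.ofι' ι w fun {Z} k hk => by
          have hk' : (k ≫ pullback.fst (cokernel.π η) ψ) ≫ cokernel.π η = 0 := by
            rw [Category.assoc, pullback.condition, reassoc_of% hk, zero_comp]
          exact ⟨Abelian.monoLift η _ hk', pullback.hom_ext
            (by rw [Category.assoc, pullback.lift_fst]; exact Abelian.monoLift_comp η _ hk')
            (by rw [Category.assoc, pullback.lift_snd, comp_zero, hk])⟩)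
        mono_f := inferInstance
        epi_g := inferInstance }
    haveI : Coh.IsQCoh T.X₁ := hq
    haveI : Coh.IsQCoh T.X₃ := hG.1
    have hE : Coh.IsQCoh E := QCohLib.isQCoh_of_shortExact hT
    obtain ⟨n, rfl⟩ : ∃ n, d = n + 1 := ⟨d - 1, by omega⟩
    have hbij : Function.Bijective (Canon.HHlin A ι (n + 1)) :=
      bijective_postcomp_f.{u, u, u + 1} (QCohLib.toAbF_shortExact hT) (hvan G hG hs n le_rfl)
        (hvan G hG hs (n + 1) (by omega))
    obtain ⟨r, hr⟩ := (hb E hE).2 (tr ∘ₗ (LinearEquiv.ofBijective (Canon.HHlin A ι (n + 1)) hbij).symm.toLinearMap)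
    have hr1 : ι ≫ r = 𝟙 ω := (hb ω hq).1 (LinearMap.ext fun x => by
      show tr (Canon.HHlin A (ι ≫ r) (n + 1) x) = tr (Canon.HHlin A (𝟙 ω) (n + 1) x)
      rw [BlowRegLib.HHlin_comp, BlowRegLib.HHlin_id]
      refine (LinearMap.congr_fun hr (Canon.HHlin A ι (n + 1) x)).trans ?_
      exact congrArg tr ((LinearEquiv.ofBijective (Canon.HHlin A ι (n + 1)) hbij).symm_apply_apply x))
    let sp := ShortComplex.Splitting.ofExactOfRetraction T hT.exact r hr1 hT.epi_g
    have hψ : (sp.s ≫ pullback.fst (cokernel.π η) ψ) ≫ cokernel.π η = ψ := by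
      rw [Category.assoc, pullback.condition, ← Category.assoc]
      exact (congrArg (· ≫ ψ) sp.s_g).trans (Category.id_comp _)
    have h2 : sp.s ≫ pullback.fst (cokernel.π η) ψ = (0 : G ⟶ P) :=
      (adj.homEquiv G (R.obj ω)).symm.injective (h0.eq_of_src _ _)
    rw [h2, zero_comp] at hψ
    exact IsZero.of_mono_eq_zero ψ hψ.symm)
  exact extends_of_isIso_unit U (isIso_of_mono_of_epi η)

end QGorSecLib
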