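import Groth.Agent.QGorSecLib.Dim
import Groth.Agent.SuppCdLib.Basic
import Groth.Agent.FibVanLib.Affine
import Groth.Agent.LocSuppLib.DepthTwo
import Groth.Agent.DepthLib.SkStalk
import Groth.Agent.DepthLib.GeomRkOpen
import Groth.Agent.RefHullLib.Reflexive
import Groth.Agent.S14104
import Groth.Agent.PnCohLib.Syz
import Groth.Agent.DCohRestrLib.Support
import Groth.Prelude.Def_RelCanon

/-!
# An open set whose complement has codimension two in every fibre
-/

set_option autoImplicit false
set_option linter.style.haveILetI false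
set_option linter.unusedSectionVars false
set_option backward.isDefEq.respectTransparency false
set_option backward.isDefEq.respectTransparency.types false
set_option maxHeartbeats 1000000

noncomputable section

universe u

open CategoryTheory CategoryTheory.Limits AlgebraicGeometry Topology
open Groth.Agent

namespace QGorSecLib

variable {X S : Scheme.{u}} {f : X ⟶ S} {U : X.Opens}
  (hcod : ∀ y : X, y ∉ U → (2 : WithBot ℕ∞) ≤ ringKrullDim ((f.fiber (f y)).presheaf.stalk (f.asFiber y)))
  {d : ℕ} (hd : ∀ s : S, topologicalKrullDim ↥(f.fiber s) ≤ (d : WithBot ℕ∞))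

include hcod in
theorem two_le_stalk_fiber (s : S) (p : f.fiber s) (hp : f.fiberι s p ∉ U) :
    (2 : WithBot ℕ∞) ≤ ringKrullDim ((f.fiber s).presheaf.stalk p) := by
  obtain ⟨y, hy⟩ : ∃ y, f.fiberι s p = y := ⟨_, rfl⟩
  have hs : f y = s := by
    rw [← hy]
    have : f.fiberι s p ∈ Set.range (f.fiberι s) := ⟨p, rfl⟩
    rwa [Scheme.Hom.range_fiberι] at this
  rw [hy] at hp
  subst hs
  have he : f.asFiber y = p := (f.fiberι _).isEmbedding.injective (by rw [Scheme.Hom.fiberι_asFiber, hy])
  exact he ▸ hcod y hp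

include hcod hd in
theorem eq_top_of_lt_two (h2 : d < 2) : U = ⊤ := by
  refine top_unique fun y _ => ?_
  by_contra hy
  let T : Set ↥(f.fiber (f y)) := f.fiberι (f y) ⁻¹' (U : Set X)ᶜ
  have hT : IsClosed T := U.isOpen.isClosed_compl.preimage (f.fiberι (f y)).continuous
  have h0 := (topologicalKrullDim_le_of_two_le hT (fun p hp => two_le_stalk_fiber hcod _ p hp) (hd _)).1 h2
  have hmem : f.asFiber y ∈ T := by
    show f.fiberι (f y) (f.asFiber y) ∉ U
    rw [Scheme.Hom.fiberι_asFiber]
    exact hy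
  rw [h0] at hmem
  exact hmem

include hcod hd in
theorem dim_fiber_closed {Z : Scheme.{u}} (ι : Z ⟶ X) [IsClosedImmersion ι]
    (hι : Set.range ι.base ⊆ (U : Set X)ᶜ) (s : S) :
    topologicalKrullDim ↥((ι ≫ f).fiber s) ≤ ((d - 2 : ℕ) : WithBot ℕ∞) := by
  let T : Set ↥(f.fiber s) := f.fiberι s ⁻¹' (U : Set X)ᶜ
  have hT : IsClosed T := U.isOpen.isClosed_compl.preimage (f.fiberι s).continuous
  refine le_trans ?_ (topologicalKrullDim_le_of_two_le hT (fun p hp => two_le_stalk_fiber hcod _ p hp) (hd s)).2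
  have hmem : ∀ z : ↥((ι ≫ f).fiber s), f (ι ((ι ≫ f).fiberι s z)) = s := fun z => by
    have : (ι ≫ f).fiberι s z ∈ Set.range ((ι ≫ f).fiberι s) := ⟨z, rfl⟩
    rw [Scheme.Hom.range_fiberι] at this
    simpa using this
  have hm : ∀ z : ↥((ι ≫ f).fiber s),
      ι ((ι ≫ f).fiberι s z) ∈ Set.range (f.fiberι s) := fun z => by
    rw [Scheme.Hom.range_fiberι]
    simpa using hmem z
  choose φ hφ using hm
  let ψ : ↥((ι ≫ f).fiber s) → T := fun z => ⟨φ z, by
    show f.fiberι s (φ z) ∈ (U : Set X)ᶜ
    rw [hφ]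
    exact hι ⟨_, rfl⟩⟩
  have hcomp : (fun t : T => f.fiberι s t.1) ∘ ψ = fun z => ι ((ι ≫ f).fiberι s z) := funext hφ
  have hin : IsInducing ((fun t : T => f.fiberι s t.1) ∘ ψ) := by
    rw [hcomp]
    exact ι.isEmbedding.isInducing.comp ((ι ≫ f).fiberι s).isEmbedding.isInducing
  have hout : IsInducing (fun t : T => f.fiberι s t.1) :=
    (f.fiberι s).isEmbedding.isInducing.comp IsInducing.subtypeVal
  exact (hout.of_comp_iff.1 hin).topologicalKrullDim_le

include hcod hd in
/-- A coherent module supported off `U` has no cohomology in degrees `≥ d - 1`. -/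
theorem subsingleton_HH_of_supp [IsAffine S] [IsNoetherian S] [IsProper f] (G : X.Modules) (hG : Coh.IsCoh G)
    (hs : CohB1.support G ⊆ (U : Set X)ᶜ) (i : ℕ) (hi : d ≤ i + 1) : Subsingleton (Coh.HH X G i) := by
  haveI : IsLocallyNoetherian X := LocallyOfFiniteType.isLocallyNoetherian f
  haveI : CompactSpace X := QuasiCompact.compactSpace_of_compactSpace f
  haveI : IsNoetherian X := ⟨⟩
  let I := Scheme.IdealSheafData.vanishingIdeal
    (⟨(U : Set X)ᶜ, U.isOpen.isClosed_compl⟩ : TopologicalSpace.Closeds X)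
  have hr : Set.range I.subschemeι.base = (U : Set X)ᶜ := by
    rw [Scheme.IdealSheafData.range_subschemeι]
    rfl
  refine SuppCdLib.subsingleton_of_support I.subschemeι (m := i) (fun M hM j hj => ?_) G hG (hr ▸ hs) i le_rfl
  haveI := hM
  haveI : IsProper (I.subschemeι ≫ f) := inferInstance
  by_cases h2 : d < 2
  · have hU := eq_top_of_lt_two hcod hd h2
    haveI : IsEmpty I.subscheme := ⟨fun z => by
      have : I.subschemeι z ∈ Set.range I.subschemeι.base := ⟨z, rfl⟩
      rw [hr, hU] at this
      exact this trivial⟩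
    exact PnCohLib.subsingleton_HH_of_zero
      ((DCohRestrLib.isZero_iff_subsingleton_stalks M).2 fun z => isEmptyElim z) j
  · exact FibVanLib.subsingleton_HH_affine _ (d - 2) (dim_fiber_closed hcod hd _ hr.le) M j (by omega)

include hcod in
/-- Functions extend uniquely across the complement of `U` when the fibres are `(S₂)`. -/
theorem bijective_res_structureModule [IsLocallyNoetherian X] [IsLocallyNoetherian S]
    (hS : RelCanon.IsSkMor f 2) (V : X.Opens) :
    Function.Bijective ((Coh.structureModule X).presheaf.map (homOfLE (inf_le_left : V ⊓ U ≤ V)).op) := by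
  haveI : Flat f := hS.1
  haveI : LocallyOfFiniteType f := hS.2.1
  refine (LocSuppLib.depth_two_iff_bijective U (DevissLib.isCoh_structureModule X)).1 (fun x hx => ?_) V
  obtain ⟨e⟩ := RefHullLib.nonempty_stalk_unit X x
  rw [← CommAlgDim.depth_congr e]
  refine Groth.Agent.S14104.result f (U : Set X)ᶜ U.isOpen.isClosed_compl 2 (fun y hy => ?_) x hx
  haveI : IsLocallyNoetherian (f.fiber (f y)) :=
    haveI : LocallyOfFiniteType (f.fiberToSpecResidueField (f y)) :=
      inferInstanceAs (LocallyOfFiniteType (pullback.snd _ _))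
    LocallyOfFiniteType.isLocallyNoetherian (f.fiberToSpecResidueField (f y))
  obtain ⟨e'⟩ := RefHullLib.nonempty_stalk_unit (f.fiber (f y)) (f.asFiber y)
  have h := (DepthLib.hasSk_stalk_iff (f.asFiber y) 2).1 (DepthLib.hasSk_congr e'.symm 2 (hS.2.2 y))
    (f.asFiber y) specializes_rfl
  rw [min_eq_left (by exact_mod_cast hcod y hy)] at h
  exact WithBot.coe_le_coe.1 h

end QGorSecLib
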