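import Groth.Agent.QGorBridgeLib.Basic
import Groth.Agent.QGorSecLib.Unit
import Groth.Agent.QGorSecLib.Vanish
import Groth.Agent.QGorSecLib.InvAt
import Groth.Agent.RefHullLib.BigOpen
import Groth.Agent.PerfBaseLib.RpushTor
import Groth.Agent.S1769
import Groth.Prelude.Def_Cyc

/-!
# The relative canonical sheaf of a proper `S₂`-morphism
-/

set_option autoImplicit false
set_option linter.style.haveILetI false
set_option linter.unusedSectionVars false
set_option backward.isDefEq.respectTransparency false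
set_option backward.isDefEq.respectTransparency.types false
set_option maxHeartbeats 1000000
set_option synthInstance.maxHeartbeats 200000

noncomputable section

universe u

open CategoryTheory CategoryTheory.Limits AlgebraicGeometry
open Groth.Agent

attribute [local instance] HasDerivedCategory.standard

namespace QGorSecLib

/-- An invertible module has reflexive stalks. -/
theorem isReflexiveAt_of_invertibleAt {X : Scheme.{u}} {L : X.Modules} {x : X}
    (h : RelCanon.InvertibleAt L x) : RefHull.IsReflexiveAt L x := by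
  obtain ⟨U, hx, ⟨e⟩⟩ := h
  let p : (U : Scheme.{u}) := ⟨x, hx⟩
  obtain ⟨e₀⟩ := RefHullLib.nonempty_stalk_unit (U : Scheme.{u}) p
  haveI : Module.Free ((U : Scheme.{u}).presheaf.stalk p) ((Coh.structureModule (U : Scheme.{u})).presheaf.stalk p) :=
    Module.Free.of_equiv e₀
  haveI : Module.Finite ((U : Scheme.{u}).presheaf.stalk p) ((Coh.structureModule (U : Scheme.{u})).presheaf.stalk p) :=
    Module.Finite.equiv e₀
  have h1 : Module.IsReflexive ((U : Scheme.{u}).presheaf.stalk p)
      ((L.restrict U.ι).presheaf.stalk p) :=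
    RefHullLib.reflexive_stalk_of_iso e.symm p
  exact (RefHullLib.isReflexive_restrict_iff U.ι L p).1 h1

variable {A : Type u} [CommRing A] [IsNoetherianRing A] {Y : Scheme.{u}} [Y.Over (Spec (CommRingCat.of A))]
  [IsProper (Y ↘ Spec (CommRingCat.of A))] {d : ℕ}
  (hd : Cyc.HasRelDim (Y ↘ Spec (CommRingCat.of A)) d) {ω : Y.Modules}
  (hω : RelCanon.IsDualizingSheaf A Y d ω)

include hd in
theorem fibre_dim_le (t : ↥(Spec (CommRingCat.of A))) :
    topologicalKrullDim ↥((Y ↘ Spec (CommRingCat.of A)).fiber t) ≤ (d : WithBot ℕ∞) :=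
  ProperTraceLib.fiber_dim_le d (fun y Z hZ => hd y Z hZ) t

include hd hω in
/-- Choice of a right adjoint and the comparison. -/
theorem exists_adjoint : ∃ (_ : DCoh.HasRpush (Y ↘ Spec (CommRingCat.of A)))
    (hf : DCoh.RpushPreservesQCoh (Y ↘ Spec (CommRingCat.of A)))
    (a : DCoh.DQCoh (Spec (CommRingCat.of A)) ⥤ DCoh.DQCoh Y)
    (_ : DCoh.RpushQ (Y ↘ Spec (CommRingCat.of A)) hf ⊣ a) (O : DCoh.DQCoh (Spec (CommRingCat.of A))),
    Nonempty (O.obj ≅ DCoh.inD (Spec (CommRingCat.of A)) (Coh.structureModule (Spec (CommRingCat.of A)))) ∧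
      (a.obj O).obj.IsGE (-(d : ℤ)) ∧ Nonempty (ω ≅ DCoh.HD (a.obj O).obj (-(d : ℤ))) := by
  let f := Y ↘ Spec (CommRingCat.of A)
  haveI : CompactSpace Y := QuasiCompact.compactSpace_of_compactSpace f
  haveI : QuasiSeparatedSpace Y := quasiSeparatedSpace_of_quasiSeparated f
  haveI := DCohRestrLib.hasRpush f
  have hf : DCoh.RpushPreservesQCoh f := fun E hE => QRlimLib.isQCohD_rpush _ hE
  haveI := KoszOrthLib.isLeftAdjoint_rpushQ f hf
  let O : DCoh.DQCoh (Spec (CommRingCat.of A)) :=
    ⟨DCoh.inD _ (Coh.structureModule _), PerfBaseLib.isQCohD_inD _ QCohLib.isQCoh_unit⟩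
  let adj := Adjunction.ofIsLeftAdjoint (DCoh.RpushQ f hf)
  exact ⟨inferInstance, hf, _, adj, O, ⟨Iso.refl _⟩,
    (QGorBridgeLib.isGE_and_isDualizingSheaf_HD adj O ⟨Iso.refl _⟩ d (fibre_dim_le hd)).1,
    QGorBridgeLib.nonempty_iso_HD adj O ⟨Iso.refl _⟩ d (fibre_dim_le hd) hω⟩

include hd hω in
/-- The relative canonical sheaf is coherent. -/
theorem isCoh_dualizing : Coh.IsCoh ω := by
  haveI : IsNoetherianRing (CommRingCat.of A) := ‹IsNoetherianRing A›
  obtain ⟨_, hf, a, adj, O, ⟨eO⟩, -, ⟨e⟩⟩ := exists_adjoint hd hω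
  have hK : ∀ i : ℤ, Coh.IsCoh (DCoh.HD O.obj i) := fun i => by
    rcases eq_or_ne i 0 with rfl | hi
    · exact QCohLib.isCoh_of_iso ((DerivedCategory.homologyFunctor _ 0).mapIso eO ≪≫ GorDualExtLib.hdInD _).symm
        (DevissLib.isCoh_structureModule _)
    · have hz := (GorDualExtLib.isZero_hd_inD (Coh.structureModule _) i hi).of_iso
        ((DerivedCategory.homologyFunctor _ i).mapIso eO)
      exact ⟨O.property i, QCohLib.isFT_of_isZero hz⟩
  refine QCohLib.isCoh_of_iso e.symm (Groth.Agent.S1769.result Y (Spec (CommRingCat.of A)) _ hf a adj O 0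
    (fun i hi => ?_) hK _)
  exact (GorDualExtLib.isZero_hd_inD _ i hi.ne).of_iso ((DerivedCategory.homologyFunctor _ i).mapIso eO)

include hd hω in
/-- The relative canonical sheaf is invertible at relatively Gorenstein points. -/
theorem invertibleAt_dualizing [Flat (Y ↘ Spec (CommRingCat.of A))] {y : Y}
    (hy : Dual3.IsGorensteinAt (Y ↘ Spec (CommRingCat.of A)) y) : RelCanon.InvertibleAt ω y := by
  haveI : IsNoetherianRing (CommRingCat.of A) := ‹IsNoetherianRing A›
  obtain ⟨_, hf, a, adj, O, hO, -, ⟨e⟩⟩ := exists_adjoint hd hω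
  obtain ⟨U, hU, ⟨c⟩⟩ := invertibleAt_HD_of_gorensteinAt (Y ↘ Spec (CommRingCat.of A)) hf a adj O hO d
    (fun y Z hZ => hd y Z hZ) y hy
  exact ⟨U, hU, ⟨(Scheme.Modules.restrictFunctor U.ι).mapIso e ≪≫ c⟩⟩

/-- Everything extends across the empty set. -/
theorem extends_top {U : Y.Opens} (hU : U = ⊤) (M : Y.Modules) : Extends U M := fun V => by
  haveI : IsIso (homOfLE (inf_le_left : V ⊓ U ≤ V)) :=
    ⟨homOfLE (le_inf le_rfl (hU ▸ le_top)), Subsingleton.elim _ _, Subsingleton.elim _ _⟩
  exact ConcreteCategory.bijective_of_isIso (M.presheaf.map (homOfLE (inf_le_left : V ⊓ U ≤ V)).op)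

include hd hω in
/-- The relative canonical sheaf extends across a closed set of fibrewise codimension two. -/
theorem extends_dualizing {U : Y.Opens}
    (hcod : ∀ y : Y, y ∉ U → (2 : WithBot ℕ∞) ≤ ringKrullDim (((Y ↘ Spec (CommRingCat.of A)).fiber
      ((Y ↘ Spec (CommRingCat.of A)) y)).presheaf.stalk ((Y ↘ Spec (CommRingCat.of A)).asFiber y))) :
    Extends U ω := by
  haveI : IsNoetherianRing (CommRingCat.of A) := ‹IsNoetherianRing A›
  haveI : IsLocallyNoetherian Y := LocallyOfFiniteType.isLocallyNoetherian (Y ↘ Spec (CommRingCat.of A))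
  haveI : CompactSpace Y := QuasiCompact.compactSpace_of_compactSpace (Y ↘ Spec (CommRingCat.of A))
  haveI : IsNoetherian Y := ⟨⟩
  rcases Nat.lt_or_ge d 1 with h0 | h1
  · exact extends_top (eq_top_of_lt_two hcod (fibre_dim_le hd) (by omega)) ω
  · exact extends_of_isDualizing U h1 hω fun G hG hs i hi =>
      subsingleton_HH_of_supp hcod (fibre_dim_le hd) G hG hs i hi

end QGorSecLib

namespace QGorSecLib

variable {X : Scheme.{u}} (U : X.Opens)

/-- A map of modules that extend across `U`, bijective on stalks over `U`, is an isomorphism. -/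
theorem isIso_of_extends {M N : X.Modules} (hM : Extends U M) (hN : Extends U N) (φ : M ⟶ N)
    (h : ∀ x ∈ U, Function.Bijective (RefHull.stalkMapₗ φ x)) : IsIso φ := by
  let adj := Scheme.Modules.restrictAdjunction U.ι
  haveI := isIso_unit_of_extends U hM
  haveI := isIso_unit_of_extends U hN
  haveI : IsIso ((Scheme.Modules.restrictFunctor U.ι).map φ) := by
    refine (RefHullLib.isIso_iff_stalk _).2 fun p => ?_
    haveI : IsIso ((TopCat.Presheaf.stalkFunctor Ab (U.ι p)).map φ.mapPresheaf) :=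
      (ConcreteCategory.isIso_iff_bijective _).2 (h _ (p.2))
    have h1 : IsIso ((Scheme.Modules.toPresheaf _ ⋙ TopCat.Presheaf.stalkFunctor _ p).map
        ((Scheme.Modules.restrictFunctor U.ι).map φ)) :=
      (NatIso.isIso_map_iff (Scheme.Modules.restrictStalkNatIso U.ι p) φ).2 this
    haveI : IsIso ((TopCat.Presheaf.stalkFunctor Ab p).map
      ((Scheme.Modules.restrictFunctor U.ι).map φ).mapPresheaf) := h1
    exact ConcreteCategory.bijective_of_isIso ((TopCat.Presheaf.stalkFunctor Ab p).map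
      ((Scheme.Modules.restrictFunctor U.ι).map φ).mapPresheaf)
  have hn : φ ≫ adj.unit.app N = adj.unit.app M ≫
      (Scheme.Modules.pushforward U.ι).map ((Scheme.Modules.restrictFunctor U.ι).map φ) := adj.unit.naturality φ
  rw [← IsIso.eq_comp_inv] at hn
  rw [hn]
  infer_instance

end QGorSecLib
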