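import Groth.Agent.FibDimLib.Pure
import Groth.Agent.EquidimLib.DimBetween

/-!
# A closed subset of points of codimension at least two
-/

set_option autoImplicit false

universe u

open CategoryTheory AlgebraicGeometry Topology

namespace QGorSecLib

variable {X : Scheme.{u}}

/-- A closed set all whose points have local rings of dimension at least two, in a space of dimension `d`,
has dimension at most `d - 2`, and is empty when `d < 2`. -/
theorem topologicalKrullDim_le_of_two_le {T : Set X} (hT : IsClosed T)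
    (h : ∀ x ∈ T, (2 : WithBot ℕ∞) ≤ ringKrullDim (X.presheaf.stalk x)) {d : ℕ}
    (hd : topologicalKrullDim ↥X ≤ (d : WithBot ℕ∞)) :
    (d < 2 → T = ∅) ∧ topologicalKrullDim ↥T ≤ ((d - 2 : ℕ) : WithBot ℕ∞) := by
  classical
  haveI := hT.isClosedEmbedding_subtypeVal.quasiSober
  have key : ∀ (n : ℕ) (c : Fin (n + 1) → T), FibDimLib.IsSpecChain c → n + 2 ≤ d := by
    intro n c hc
    have h0 := h _ (c 0).2
    rw [EquidimLib.stalk_dim_eq] at h0
    haveI : QuasiSober ↥{v : X | v ⤳ ((c 0 : T) : X)} :=
      ((EquidimLib.isInducing_stalkPt _).isEmbedding.toHomeomorph.trans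
        (Homeomorph.setCongr (EquidimLib.range_stalkPt _))).symm.isClosedEmbedding.quasiSober
    obtain ⟨e, he, hes⟩ := FibDimLib.exists_specChain (n := 2) (by simpa using h0)
    have sp : ∀ i j, i ≤ j → (e i : X) ⤳ (e j : X) := fun i j hij => (hes i j hij).map continuous_subtype_val
    let g : Fin (n + 2 + 1) → X := fun i =>
      if hi : (i : ℕ) < 2 then (e ⟨i, by omega⟩ : X) else (c ⟨(i : ℕ) - 2, by omega⟩ : X)
    have hg : ∀ i j, i ≤ j → g i ⤳ g j := by
      intro i j hij
      have hij' : (i : ℕ) ≤ j := hij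
      by_cases hi : (i : ℕ) < 2 <;> by_cases hj : (j : ℕ) < 2 <;> simp only [g, dif_pos, dif_neg, hi, hj, not_false_eq_true]
      · exact sp _ _ hij'
      · exact (e ⟨i, by omega⟩).2.trans ((hc.2 0 _ (Fin.zero_le _)).map continuous_subtype_val)
      · omega
      · exact (hc.2 _ _ (Fin.mk_le_mk.2 (by omega))).map continuous_subtype_val
    have hinj : Function.Injective g := by
      have hne : ∀ i : Fin 2, ∀ j, (e i.castSucc : X) ≠ (c j : X) := by
        intro i j hij
        have h1 : ((c 0 : T) : X) ⤳ (e i.castSucc : X) := hij ▸ (hc.2 0 j (Fin.zero_le _)).map continuous_subtype_val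
        have h2 : (e i.castSucc : X) = (c 0 : X) := ((e i.castSucc).2.antisymm h1).eq
        have h3 : (e i.succ : X) = (e i.castSucc : X) :=
          ((show (e i.succ : X) ⤳ (e i.castSucc : X) by rw [h2]; exact (e i.succ).2).antisymm
            (sp _ _ i.castSucc_le_succ)).eq
        exact i.castSucc_lt_succ.ne (he (Subtype.ext h3.symm))
      intro i j hij
      by_cases hi : (i : ℕ) < 2 <;> by_cases hj : (j : ℕ) < 2 <;>
        simp only [g, dif_pos, dif_neg, hi, hj, not_false_eq_true] at hij
      · exact Fin.ext (by simpa using congrArg Fin.val (he (Subtype.ext hij)))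
      · exact absurd hij (hne ⟨i, hi⟩ _)
      · exact absurd hij.symm (hne ⟨j, hj⟩ _)
      · have := congrArg Fin.val (hc.1 (Subtype.ext hij))
        exact Fin.ext (by simp only at this; omega)
    exact_mod_cast (FibDimLib.IsSpecChain.le_topologicalKrullDim ⟨hinj, hg⟩).trans hd
  refine ⟨fun hd2 => ?_, ?_⟩
  · by_contra hne
    obtain ⟨x, hx⟩ := Set.nonempty_iff_ne_empty.2 hne
    have := key 0 (fun _ => ⟨x, hx⟩) ⟨fun i j _ => Fin.ext (by omega), fun i j _ => specializes_rfl⟩
    omega
  · by_contra hlt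
    obtain ⟨c, hc⟩ := FibDimLib.exists_specChain (A := T) (n := d - 2 + 1) (by
      have h1 : ((d - 2 : ℕ) : WithBot ℕ∞) < topologicalKrullDim ↥T := not_le.1 hlt
      generalize topologicalKrullDim ↥T = t at h1 ⊢
      match t with
      | ⊥ => simp at h1
      | (t : ℕ∞) =>
        have h2 : ((d - 2 : ℕ) : ℕ∞) < t := WithBot.coe_lt_coe.1
          (show (((d - 2 : ℕ) : ℕ∞) : WithBot ℕ∞) < (t : WithBot ℕ∞) from h1)
        show (((d - 2 + 1 : ℕ) : ℕ∞) : WithBot ℕ∞) ≤ (t : WithBot ℕ∞)
        rw [WithBot.coe_le_coe, Nat.cast_add, Nat.cast_one]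
        exact Order.add_one_le_of_lt h2)
    have := key _ c hc
    omega

end QGorSecLib
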